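import Mathlib.RingTheory.IntegralClosure.IntegrallyClosed
import Mathlib.RingTheory.Localization.FractionRing
import Mathlib.Algebra.Ring.Subring.Basic
import Mathlib.Algebra.BigOperators.Pi

/-!
The locus where a family of maps preserving regular elements coincide, inside a finite product of normal
domains, is a finite product of normal domains.
-/

set_option autoImplicit false

universe u w

namespace Groth.Agent.H20Inv

noncomputable section

variable {ι : Type u} {D : ι → Type u} [∀ i, CommRing (D i)] [∀ i, IsDomain (D i)]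
  {R : Type w} [CommRing R]

open Classical in
/-- The support idempotent. -/
def suppIdem (a : Π i, D i) : Π i, D i := fun i => if a i = 0 then 0 else 1

omit [∀ i, IsDomain (D i)] in
theorem suppIdem_mul_self (a : Π i, D i) : suppIdem a * suppIdem a = suppIdem a := by
  funext i
  by_cases h : a i = 0 <;> simp [suppIdem, h]

omit [∀ i, IsDomain (D i)] in
theorem mul_suppIdem (a : Π i, D i) : a * suppIdem a = a := by
  funext i
  by_cases h : a i = 0 <;> simp [suppIdem, h]

theorem add_suppIdem_mem_nonZeroDivisors (a : Π i, D i) : a + (1 - suppIdem a) ∈ nonZeroDivisors (Π i, D i) := by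
  rw [mem_nonZeroDivisors_iff_right]
  intro x hx
  funext i
  have h := congrFun hx i
  by_cases h0 : a i = 0
  · simpa [suppIdem, h0] using h
  · simpa [suppIdem, h0] using h

theorem exists_mul_eq_of_isIntegral {E : Type u} [CommRing E] [IsDomain E] {B : Type u} [CommRing B] [IsDomain B]
    [IsIntegrallyClosed B] (g : E →+* B) (hg : Function.Injective g) (x : E) (y : nonZeroDivisors E)
    (hq : _root_.IsIntegral E (IsLocalization.mk' (FractionRing E) x y)) : ∃ z : B, z * g y = g x := by
  let gK : E →+* FractionRing B := (algebraMap B (FractionRing B)).comp g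
  have hgK : Function.Injective gK := (IsFractionRing.injective B (FractionRing B)).comp hg
  let φ : FractionRing E →+* FractionRing B := IsFractionRing.lift hgK
  have hφ : ∀ e, φ (algebraMap E (FractionRing E) e) = algebraMap B (FractionRing B) (g e) := fun e =>
    IsFractionRing.lift_algebraMap hgK e
  clear_value φ
  have hint : _root_.IsIntegral B (φ (IsLocalization.mk' (FractionRing E) x y)) := by
    obtain ⟨p, hp, hp0⟩ := hq
    refine ⟨p.map g, hp.map g, ?_⟩
    rw [Polynomial.eval₂_map, show (algebraMap B (FractionRing B)).comp g = φ.comp (algebraMap E (FractionRing E)) from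
      RingHom.ext fun e => (hφ e).symm, ← Polynomial.hom_eval₂, hp0, map_zero]
  obtain ⟨z, hz⟩ := (isIntegrallyClosed_iff (FractionRing B)).1 inferInstance hint
  refine ⟨z, IsFractionRing.injective B (FractionRing B) ?_⟩
  rw [map_mul, hz, ← hφ, ← hφ, ← map_mul, IsLocalization.mk'_spec]

variable {F : Set ((Π i, D i) →+* R)}
  (hF : ∀ f ∈ F, ∀ s ∈ nonZeroDivisors (Π i, D i), f s ∈ nonZeroDivisors R)
  {A : Subring (Π i, D i)} (hA : ∀ a, a ∈ A ↔ ∀ f ∈ F, ∀ f' ∈ F, f a = f' a)

include hF hA

theorem suppIdem_mem {a : Π i, D i} (ha : a ∈ A) : suppIdem a ∈ A := by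
  set e := suppIdem a
  rw [hA] at ha ⊢
  have half : ∀ f ∈ F, ∀ f' ∈ F, f e * (1 - f' e) = 0 := by
    intro f hf f' hf'
    have hN := hF f hf _ (add_suppIdem_mem_nonZeroDivisors a)
    rw [mem_nonZeroDivisors_iff_right] at hN
    refine hN _ ?_
    rw [map_add, map_sub, map_one]
    have h1 : f a * f e = f a := by rw [← map_mul, mul_suppIdem]
    have h2 : f a * f' e = f a := by rw [ha f hf f' hf', ← map_mul, mul_suppIdem]
    have h3 : f e * f e = f e := by rw [← map_mul, suppIdem_mul_self]
    linear_combination (1 - f' e) * h1 - h2 + (f' e - 1) * h3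
  intro f hf f' hf'
  linear_combination half f hf f' hf' - half f' hf' f hf

theorem mem_of_mul_eq {x y z : Π i, D i} (hx : x ∈ A) (hy : y ∈ A) (hz : z * y = x)
    (hsupp : ∀ i, y i = 0 → z i = 0) : z ∈ A := by
  have he := suppIdem_mem hF hA hy
  rw [hA] at hx hy he ⊢
  intro f hf f' hf'
  have hze : z * suppIdem y = z := by
    funext i
    by_cases h : y i = 0 <;> simp [suppIdem, h, hsupp]
  have hN := hF f hf _ (add_suppIdem_mem_nonZeroDivisors y)
  rw [mem_nonZeroDivisors_iff_right] at hN
  refine sub_eq_zero.1 (hN _ ?_)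
  rw [map_add, map_sub, map_one]
  have h1 : f z * f y = f x := by rw [← map_mul, hz]
  have h2 : f' z * f y = f x := by rw [hy f hf f' hf', ← map_mul, hz, hx f hf f' hf']
  have h3 : f z * f (suppIdem y) = f z := by rw [← map_mul, hze]
  have h4 : f' z * f (suppIdem y) = f' z := by rw [he f hf f' hf', ← map_mul, hze]
  linear_combination h1 - h2 - h3 + h4

theorem exists_prod_normal_domains [Fintype ι] [∀ i, IsIntegrallyClosed (D i)] :
    ∃ (κ : Type u) (_ : Fintype κ) (E : κ → Type u) (_ : ∀ j, CommRing (E j)) (_ : ∀ j, IsDomain (E j))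
      (_ : ∀ j, IsIntegrallyClosed (E j)), Nonempty (A ≃+* Π j, E j) := by
  classical
  let s : Setoid ι := ⟨fun i j => ∀ a ∈ A, a i = 0 ↔ a j = 0,
    ⟨fun i a _ => Iff.rfl, fun h a ha => (h a ha).symm, fun h h' a ha => (h a ha).trans (h' a ha)⟩⟩
  let π : (C : Quotient s) → (A →+* (Π i : {i // Quotient.mk s i = C}, D i)) := fun C =>
    (RingHom.pi fun i : {i // Quotient.mk s i = C} => Pi.evalRingHom D i.1).comp A.subtype
  -- the idempotents of the classes
  have hidem : ∀ C : Quotient s, (fun i => if Quotient.mk s i = C then (1 : D i) else 0) ∈ A := by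
    intro C
    obtain ⟨i₀, rfl⟩ := Quotient.exists_rep C
    have hsep : ∀ j, Quotient.mk s j ≠ Quotient.mk s i₀ → ∃ a ∈ A, (∀ i, a i = 0 ∨ a i = 1) ∧ a i₀ = 1 ∧ a j = 0 := by
      intro j hj
      obtain ⟨a, ha, hne⟩ : ∃ a ∈ A, ¬ (a j = 0 ↔ a i₀ = 0) := by
        by_contra h
        exact hj (Quotient.sound fun a ha => by by_contra h'; exact h ⟨a, ha, h'⟩)
      by_cases h0 : a i₀ = 0
      · have hj0 : a j ≠ 0 := fun h => hne ⟨fun _ => h0, fun _ => h⟩
        refine ⟨1 - suppIdem a, A.sub_mem A.one_mem (suppIdem_mem hF hA ha), fun i => ?_, by simp [suppIdem, h0],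
          by simp [suppIdem, hj0]⟩
        by_cases h : a i = 0 <;> simp [suppIdem, h]
      · have hj0 : a j = 0 := by by_contra h; exact hne ⟨fun e => absurd e h, fun e => absurd e h0⟩
        refine ⟨suppIdem a, suppIdem_mem hF hA ha, fun i => ?_, by simp [suppIdem, h0], by simp [suppIdem, hj0]⟩
        by_cases h : a i = 0 <;> simp [suppIdem, h]
    choose! a ha h01 hi₀ hj₀ using hsep
    have hmem : ∏ j ∈ Finset.univ.filter (fun j => Quotient.mk s j ≠ Quotient.mk s i₀), a j ∈ A :=
      A.prod_mem fun j hj => ha j (Finset.mem_filter.1 hj).2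
    convert hmem using 1
    funext i
    rw [Finset.prod_apply]
    by_cases h : Quotient.mk s i = Quotient.mk s i₀
    · rw [if_pos h, Finset.prod_eq_one fun j hj => ?_]
      have hj' := (Finset.mem_filter.1 hj).2
      refine (h01 j hj' i).resolve_left fun h0 => ?_
      exact one_ne_zero ((hi₀ j hj').symm.trans ((Quotient.exact h (a j) (ha j hj')).1 h0))
    · rw [if_neg h, Finset.prod_eq_zero (Finset.mem_filter.2 ⟨Finset.mem_univ i, h⟩) (hj₀ i h)]
  have hzero : ∀ (C : Quotient s) (x : (π C).range) (i : {i // Quotient.mk s i = C}),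
      (x : Π i : {i // Quotient.mk s i = C}, D i) i = 0 → x = 0 := by
    rintro C ⟨_, a, rfl⟩ i hi
    refine Subtype.ext (funext fun j => ?_)
    exact (Quotient.exact (i.2.trans j.2.symm) a.1 a.2).1 hi
  haveI hdom : ∀ C : Quotient s, IsDomain (π C).range := fun C => by
    obtain ⟨i₀, rfl⟩ := Quotient.exists_rep C
    haveI : Nontrivial (π (Quotient.mk s i₀)).range :=
      ⟨⟨0, 1, fun h => zero_ne_one (α := D i₀) (congrFun (congrArg Subtype.val h) ⟨i₀, rfl⟩)⟩⟩
    haveI : NoZeroDivisors (π (Quotient.mk s i₀)).range := ⟨fun {x y} h => by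
      rcases mul_eq_zero.1 (congrFun (congrArg Subtype.val h) ⟨i₀, rfl⟩) with h' | h'
      · exact Or.inl (hzero _ x _ h')
      · exact Or.inr (hzero _ y _ h')⟩
    exact NoZeroDivisors.to_isDomain _
  haveI hic : ∀ C : Quotient s, IsIntegrallyClosed (π C).range := fun C => by
    rw [isIntegrallyClosed_iff (FractionRing (π C).range)]
    intro q hq
    obtain ⟨x, ⟨y, hy⟩, rfl⟩ := IsLocalization.exists_mk'_eq (nonZeroDivisors (π C).range) q
    have hy0 : ∀ i : {i // Quotient.mk s i = C}, (y : Π i : {i // Quotient.mk s i = C}, D i) i ≠ 0 :=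
      fun i h => nonZeroDivisors.ne_zero hy (hzero C y i h)
    have hz : ∀ i : {i // Quotient.mk s i = C}, ∃ z : D i.1,
        z * (y : Π i : {i // Quotient.mk s i = C}, D i) i = (x : Π i : {i // Quotient.mk s i = C}, D i) i := by
      intro i
      let g : (π C).range →+* D i.1 :=
        (Pi.evalRingHom (fun i : {i // Quotient.mk s i = C} => D i) i).comp (π C).range.subtype
      exact exists_mul_eq_of_isIntegral g ((injective_iff_map_eq_zero _).2 fun a ha => hzero C a i ha) x ⟨y, hy⟩ hq
    choose z hz using hz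
    obtain ⟨xa, hxa⟩ := x.2
    obtain ⟨ya, hya⟩ := y.2
    let Z : Π i, D i := fun i => if h : Quotient.mk s i = C then z ⟨i, h⟩ else 0
    have hZ : Z ∈ A := by
      refine mem_of_mul_eq hF hA (A.mul_mem (hidem C) xa.2) (A.mul_mem (hidem C) ya.2) (funext fun i => ?_) fun i => ?_
      · by_cases h : Quotient.mk s i = C
        · simp only [Z, Pi.mul_apply, dif_pos h, if_pos h, one_mul]
          have e1 := congrFun hxa ⟨i, h⟩
          have e2 := congrFun hya ⟨i, h⟩
          exact (congrArg (z ⟨i, h⟩ * ·) e2).trans ((hz ⟨i, h⟩).trans e1.symm)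
        · simp [Z, h]
      · by_cases h : Quotient.mk s i = C
        · simp only [Z, Pi.mul_apply, dif_pos h, if_pos h, one_mul]
          intro h0
          exact absurd ((congrFun hya ⟨i, h⟩).symm.trans h0) (hy0 ⟨i, h⟩)
        · simp [Z, h]
    refine ⟨⟨π C ⟨Z, hZ⟩, ⟨Z, hZ⟩, rfl⟩, ?_⟩
    rw [IsLocalization.eq_mk'_iff_mul_eq, ← map_mul]
    refine congrArg _ (Subtype.ext (funext fun i => ?_))
    show Z i.1 * (y : Π i : {i // Quotient.mk s i = C}, D i) i = _
    rw [show Z i.1 = z i by simp [Z, i.2]]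
    exact hz i
  let Φ : A →+* (Π C, (π C).range) := RingHom.pi fun C => (π C).rangeRestrict
  have hΦ : Function.Bijective Φ := by
    refine ⟨fun a b h => Subtype.ext (funext fun i => ?_), fun g => ?_⟩
    · exact congrFun (congrArg Subtype.val (congrFun h (Quotient.mk s i))) ⟨i, rfl⟩
    · choose a ha using fun C => (g C).2
      refine ⟨∑ C, ⟨_, hidem C⟩ * a C, funext fun C => Subtype.ext (funext fun i => ?_)⟩
      show ((∑ C, ⟨_, hidem C⟩ * a C : A) : Π i, D i) i.1 = _
      rw [AddSubmonoidClass.coe_finsetSum, Finset.sum_apply, Finset.sum_eq_single C]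
      · rw [← ha C]
        simp [π, i.2]
      · intro C' _ hne
        simp [i.2, hne.symm]
      · simp
  exact ⟨Quotient s, inferInstance, fun C => (π C).range, inferInstance, hdom, hic, ⟨RingEquiv.ofBijective Φ hΦ⟩⟩

end

end Groth.Agent.H20Inv
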